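import Mathlib
import Cfsg.Agent.Lib.helper17.SLP.Defs
import Cfsg.Agent.Lib.helper3.SP4.Defs

/-!
# Project SU4 (designer helper22): `SU₄(q)` has a presentation with 6 generators and at most 35 relations (third clause of S2294;
base of the even case of S2291, architect helper27).  PORT of helper3's project SP4 (S2293) to the twisted root system `²A₃ = C₂`.

`F` a field with `q²` elements, `σ x = x ^ q`, `K` the fixed field (`q` elements), `ι : K →+* F`; all of this is bundled in `Tw F K`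
(with the norm `nm : F → K`, `ι (nm x) = x * σ x`, and the trace `tr : F → K`, `ι (tr x) = x + σ x`).
Model: `SUJ σ = {A ∈ SL₄(F) | Aᵀ * J * σ(A) = J}`, `J = Matrix.J (Fin 2) F = [[0,-1],[1,0]]`, basis `e₁ e₂ f₁ f₂` (a skew-hermitian form; row M6 of the
skeleton transports to the frozen `Cfsg.SU 4 F q`).  Generators: `(u_a, h_a, w_a) = rhoAT (xM 1, hM ζ, wM)` with `rhoAT M = [[M, 0], [0, σ(M)⁻ᵀ]]` the SHORT root `SL₂(F)`
(simple root `a = e₁ - e₂`, root group `≅ F`) and `(u_b, h_b, w_b) = rhoBT (xM 1, hM ζ₀, wM)` with `rhoBT M` = `ι(M)` on the hyperbolic pair `(e₂, f₂)`, the LONG root `SL₂(K)`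
(simple root `b = 2e₂`, root group `≅ K`); `ζ` generates `Fˣ`, `ζ₀ = ζ^(q+1)` generates `Kˣ`.  Positive roots `a`, `b`, `c = a + b` (short), `d = 2a + b` (long).
`rx rh rn Act RG cells8 Cell8 RD4 ev6 inA inB pUa … pWb` are those of `Cfsg.Agent.Lib.helper3.SP4` (they are generic in the field).
-/

set_option autoImplicit false

namespace Cfsg.Agent.Lib.Helper22.SU4

open Cfsg.Agent.Lib.helper17.SLP Cfsg.Agent.Lib.helper3.SP4

universe u v w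

/-- The twisting data: the involution `σ` of `F`, its fixed field `K` (through `ι`), norm and trace. -/
structure Tw (F : Type u) (K : Type u) [Field F] [Field K] where
  σ : F →+* F
  ι : K →+* F
  σσ : ∀ x, σ (σ x) = x
  fix : ∀ x : F, σ x = x ↔ ∃ y : K, ι y = x
  nm : F → K
  tr : F → K
  hnm : ∀ x, ι (nm x) = x * σ x
  htr : ∀ x, ι (tr x) = x + σ x

section Tw

variable {F : Type u} {K : Type u} [Field F] [Field K] (D : Tw F K)

/-- `ι` on units. -/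
def Tw.ιu : Kˣ →* Fˣ := Units.map (D.ι : K →* F)

/-- `σ` on units. -/
def Tw.σu : Fˣ →* Fˣ := Units.map (D.σ : F →* F)

theorem Tw.ι_injective : Function.Injective D.ι := D.ι.injective

theorem Tw.nm_one : D.nm 1 = 1 := by
  apply D.ι_injective
  rw [D.hnm, map_one, map_one, mul_one]

theorem Tw.nm_mul (x y : F) : D.nm (x * y) = D.nm x * D.nm y := by
  apply D.ι_injective
  rw [map_mul, D.hnm, D.hnm, D.hnm, map_mul]
  ring

/-- the norm as a monoid homomorphism `F →* K`. -/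
def Tw.nmHom : F →* K where
  toFun := D.nm
  map_one' := D.nm_one
  map_mul' := D.nm_mul

/-- the norm on units. -/
def Tw.nmu : Fˣ →* Kˣ := Units.map D.nmHom

theorem Tw.ιu_coe (r : Kˣ) : ((D.ιu r : Fˣ) : F) = D.ι (r : K) := rfl

theorem Tw.σu_coe (s : Fˣ) : ((D.σu s : Fˣ) : F) = D.σ (s : F) := rfl

theorem Tw.nmu_coe (s : Fˣ) : ((D.nmu s : Kˣ) : K) = D.nm (s : F) := rfl

end Tw

section Roots

variable {F : Type u} {K : Type u} [Field F] [Field K] {G : Type v} [Group G]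

/-- the root map of `c = a + b`: `x_c(t) = w_b⁻¹ x_a(t) w_b` (`t : F`). -/
def xcT (φa : Matrix.SpecialLinearGroup (Fin 2) F →* G) (φb : Matrix.SpecialLinearGroup (Fin 2) K →* G) (t : F) : G :=
  (rn φb)⁻¹ * rx φa t * rn φb

/-- the root map of `d = 2a + b`: `x_d(u) = w_a⁻¹ x_b(u) w_a` (`u : K`). -/
def xdT (φa : Matrix.SpecialLinearGroup (Fin 2) F →* G) (φb : Matrix.SpecialLinearGroup (Fin 2) K →* G) (u : K) : G :=
  (rn φa)⁻¹ * rx φb u * rn φa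

/-- The 13 structural relations between `φa : SL₂(F) →* G` and `φb : SL₂(K) →* G` (`ζ` a generator of `Fˣ`, `ζ₀` of `Kˣ`, `ι ζ₀ = ζ * σ ζ`). -/
structure HypT (D : Tw F K) (ζ : Fˣ) (ζ₀ : Kˣ) (φa : Matrix.SpecialLinearGroup (Fin 2) F →* G)
    (φb : Matrix.SpecialLinearGroup (Fin 2) K →* G) : Prop where
  /-- `[h_a, h_b] = 1` -/
  T1 : Commute (rh φa ζ) (rh φb ζ₀)
  /-- `h_b⁻¹ x_a(1) h_b = x_a(ζ₀)` -/
  T2 : (rh φb ζ₀)⁻¹ * rx φa 1 * rh φb ζ₀ = rx φa (D.ι (ζ₀ : K))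
  /-- `h_a⁻¹ x_b(1) h_a = x_b(ζ₀)` (`ζ₀ = N(ζ)`) -/
  T3 : (rh φa ζ)⁻¹ * rx φb 1 * rh φa ζ = rx φb (ζ₀ : K)
  /-- `w_a h_b w_a⁻¹ = h_b h_a(ζ₀)` (`h_a(ζ₀) = h_a ^ (q + 1)`) -/
  N4 : rn φa * rh φb ζ₀ * (rn φa)⁻¹ = rh φb ζ₀ * rh φa (D.ιu ζ₀)
  /-- `w_b h_a w_b⁻¹ = h_a h_b` -/
  N5 : rn φb * rh φa ζ * (rn φb)⁻¹ = rh φa ζ * rh φb ζ₀
  /-- braid relation of length 4 -/
  N6 : rn φa * rn φb * rn φa * rn φb = rn φb * rn φa * rn φb * rn φa
  /-- the reflection in `a + b` inverts `x_a(1)` -/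
  W7 : (rn φb * rn φa * (rn φb)⁻¹) * rx φa 1 * (rn φb * rn φa * (rn φb)⁻¹)⁻¹ = (rx φa 1)⁻¹
  /-- the reflection in `2a + b` centralises `x_b(1)` -/
  W8 : Commute (rn φa * rn φb * (rn φa)⁻¹) (rx φb 1)
  /-- `[x_a(1), x_b(1)] = x_c(1) x_d(1)` -/
  C9 : cm (rx φa 1) (rx φb 1) = xcT φa φb 1 * xdT φa φb 1
  /-- `[x_a(1), x_c(1)] = x_d(2) = x_d(1)²` -/
  C10 : cm (rx φa 1) (xcT φa φb 1) = xdT φa φb 1 ^ 2
  /-- `[x_a(1), x_c(ζ)] = x_d(tr ζ)` -/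
  C10b : cm (rx φa 1) (xcT φa φb (ζ : F)) = xdT φa φb (D.tr (ζ : F))
  /-- `[x_a(1), x_d(1)] = 1` -/
  C11 : Commute (rx φa 1) (xdT φa φb 1)
  /-- `[x_b(1), x_d(1)] = 1` -/
  C12 : Commute (rx φb 1) (xdT φa φb 1)

/-- The torus: `h_a(s)` (`s : Fˣ`) and `h_b(r)` (`r : Kˣ`) commute, the Weyl elements act on them, and they act on the four positive root maps through the
characters `a = s²/r`, `b = r²/N(s)`, `c = r s/σ(s)`, `d = N(s)` of `h_a(s) h_b(r)`. -/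
structure Tor4T (D : Tw F K) (φa : Matrix.SpecialLinearGroup (Fin 2) F →* G)
    (φb : Matrix.SpecialLinearGroup (Fin 2) K →* G) : Prop where
  comm : ∀ (s : Fˣ) (r : Kˣ), Commute (rh φa s) (rh φb r)
  wa_hb : ∀ r : Kˣ, rn φa * rh φb r * (rn φa)⁻¹ = rh φb r * rh φa (D.ιu r)
  wb_ha : ∀ s : Fˣ, rn φb * rh φa s * (rn φb)⁻¹ = rh φa s * rh φb (D.nmu s)
  wa_hb' : ∀ r : Kˣ, (rn φa)⁻¹ * rh φb r * rn φa = rh φb r * rh φa (D.ιu r)
  wb_ha' : ∀ s : Fˣ, (rn φb)⁻¹ * rh φa s * rn φb = rh φa s * rh φb (D.nmu s)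
  aa : ∀ s : Fˣ, Act (rh φa s) (rx φa) ((s : F) ^ 2)
  ab : ∀ r : Kˣ, Act (rh φb r) (rx φa) (D.ι ((r⁻¹ : Kˣ) : K))
  ba : ∀ s : Fˣ, Act (rh φa s) (rx φb) (((D.nmu s)⁻¹ : Kˣ) : K)
  bb : ∀ r : Kˣ, Act (rh φb r) (rx φb) ((r : K) ^ 2)
  ca : ∀ s : Fˣ, Act (rh φa s) (xcT φa φb) ((s : F) * D.σ ((s⁻¹ : Fˣ) : F))
  cb : ∀ r : Kˣ, Act (rh φb r) (xcT φa φb) (D.ι (r : K))
  da : ∀ s : Fˣ, Act (rh φa s) (xdT φa φb) (D.nm (s : F))
  db : ∀ r : Kˣ, Act (rh φb r) (xdT φa φb) 1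

/-- The action of `w_a`, `w_b` on the positive root maps other than their own. -/
structure Wact4T (D : Tw F K) (φa : Matrix.SpecialLinearGroup (Fin 2) F →* G)
    (φb : Matrix.SpecialLinearGroup (Fin 2) K →* G) : Prop where
  a_b : ∀ u, rn φa * rx φb u * (rn φa)⁻¹ = xdT φa φb u
  a_d : ∀ u, rn φa * xdT φa φb u * (rn φa)⁻¹ = rx φb u
  a_c : ∀ t, rn φa * xcT φa φb t * (rn φa)⁻¹ = xcT φa φb (-D.σ t)
  b_a : ∀ t, rn φb * rx φa t * (rn φb)⁻¹ = xcT φa φb (-t)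
  b_c : ∀ t, rn φb * xcT φa φb t * (rn φb)⁻¹ = rx φa t
  b_d : ∀ u, rn φb * xdT φa φb u * (rn φb)⁻¹ = xdT φa φb u

/-- The commutator relations between the four positive root maps, for all parameters. -/
structure Comm4T (D : Tw F K) (φa : Matrix.SpecialLinearGroup (Fin 2) F →* G)
    (φb : Matrix.SpecialLinearGroup (Fin 2) K →* G) : Prop where
  ad : ∀ t u, Commute (rx φa t) (xdT φa φb u)
  bd : ∀ u u', Commute (rx φb u) (xdT φa φb u')
  cd : ∀ t u, Commute (xcT φa φb t) (xdT φa φb u)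
  bc : ∀ u t, Commute (rx φb u) (xcT φa φb t)
  ac : ∀ t s, cm (rx φa t) (xcT φa φb s) = xdT φa φb (D.tr (t * D.σ s))
  ab : ∀ t u, cm (rx φa t) (rx φb u) = xcT φa φb (t * D.ι u) * xdT φa φb (D.nm t * u)

/-- the torus `T = ⟨h_a(s), h_b(r)⟩`. -/
def TTT (φa : Matrix.SpecialLinearGroup (Fin 2) F →* G) (φb : Matrix.SpecialLinearGroup (Fin 2) K →* G) :
    Subgroup G :=
  Subgroup.closure (Set.range (rh φa) ∪ Set.range (rh φb))

end Roots

section Words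

variable {G : Type u} [Group G]

/-- `h_b⁻¹ u_a h_b = x_a(ζ₀)` (`za` = the word of `x_a(ζ₀)`). -/
def relT2 (ua hb za : G) : G := hb⁻¹ * ua * hb * za⁻¹

/-- `h_a⁻¹ u_b h_a = x_b(ζ₀)` (`zb` = the word of `x_b(ζ₀)`). -/
def relT3 (ha ub zb : G) : G := ha⁻¹ * ub * ha * zb⁻¹

/-- `w_a h_b w_a⁻¹ = h_b h_a ^ e` (`e = q + 1`). -/
def relT4 (ha wa hb : G) (e : ℕ) : G := wa * hb * wa⁻¹ * (hb * ha ^ e)⁻¹

/-- `w_b h_a w_b⁻¹ = h_a h_b`. -/
def relT5 (ha hb wb : G) : G := wb * ha * wb⁻¹ * (ha * hb)⁻¹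

/-- `[u_a, w_b⁻¹ z w_b] = w_a⁻¹ z' w_a` (`z` = the word of `x_a(ζ)`, `z'` = the word of `x_b(tr ζ)`). -/
def relT10b (ua wa wb z z' : G) : G := cm ua (wb⁻¹ * z * wb) * (wa⁻¹ * z' * wa)⁻¹

end Words

section Free

/-- the 13 structural relators: `za` the word of `x_a(ζ₀)`, `zc` the word of `x_a(ζ)` (in the letters `0 1 2`), `zb` the word of `x_b(ζ₀)`, `zd` the word of `x_b(tr ζ)`
(in the letters `3 4 5`), `e = q + 1`.  `relS1 relS6 … relS12` are those of SP4. -/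
def wordsT6 (za zc zb zd : FreeGroup (Fin 6)) (e : ℕ) : List (FreeGroup (Fin 6)) :=
  [relS1 pHa pHb, relT2 pUa pHb za, relT3 pHa pUb zb, relT4 pHa pWa pHb e, relT5 pHa pHb pWb,
    relS6 pWa pWb, relS7 pUa pWa pWb, relS8 pWa pUb pWb, relS9 pUa pWa pUb pWb,
    relS10 pUa pWa pUb pWb, relT10b pUa pWa pWb zc zd, relS11 pUa pWa pUb, relS12 pWa pUb]

end Free

section Mat

open Matrix

variable {F : Type u} {K : Type u} [Field F] [Field K]

/-- the matrix of the short-root `SL₂(F)`: `M ↦ [[M, 0], [0, σ(M)⁻ᵀ]]`. -/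
def rhoATm (σ : F →+* F) (M : Matrix (Fin 2) (Fin 2) F) : Matrix (Fin 2 ⊕ Fin 2) (Fin 2 ⊕ Fin 2) F :=
  Matrix.fromBlocks M 0 0 !![σ (M 1 1), -σ (M 1 0); -σ (M 0 1), σ (M 0 0)]

/-- the matrix of the long-root `SL₂(K)` acting on the hyperbolic pair `(e₂, f₂)`. -/
def rhoBTm (ι : K →+* F) (M : Matrix (Fin 2) (Fin 2) K) : Matrix (Fin 2 ⊕ Fin 2) (Fin 2 ⊕ Fin 2) F :=
  Matrix.fromBlocks !![1, 0; 0, ι (M 0 0)] !![0, 0; 0, ι (M 0 1)] !![0, 0; 0, ι (M 1 0)] !![1, 0; 0, ι (M 1 1)]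

/-- the unitary condition for the skew-hermitian form `J`: `Aᵀ * J * σ(A) = J`. -/
def IsUJ (σ : F →+* F) (A : Matrix (Fin 2 ⊕ Fin 2) (Fin 2 ⊕ Fin 2) F) : Prop :=
  Aᵀ * Matrix.J (Fin 2) F * A.map σ = Matrix.J (Fin 2) F

theorem isUJ_one (σ : F →+* F) : IsUJ σ (1 : Matrix (Fin 2 ⊕ Fin 2) (Fin 2 ⊕ Fin 2) F) := by
  unfold IsUJ
  rw [Matrix.transpose_one, Matrix.one_mul, Matrix.map_one σ (map_zero σ) (map_one σ), Matrix.mul_one]

theorem isUJ_mul (σ : F →+* F) {A B : Matrix (Fin 2 ⊕ Fin 2) (Fin 2 ⊕ Fin 2) F} (hA : IsUJ σ A) (hB : IsUJ σ B) :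
    IsUJ σ (A * B) := by
  unfold IsUJ at *
  rw [Matrix.transpose_mul, Matrix.map_mul]
  calc Bᵀ * Aᵀ * Matrix.J (Fin 2) F * (A.map σ * B.map σ)
      = Bᵀ * (Aᵀ * Matrix.J (Fin 2) F * A.map σ) * B.map σ := by simp only [Matrix.mul_assoc]
    _ = Matrix.J (Fin 2) F := by rw [hA, hB]

theorem isUJ_inv (σ : F →+* F) {A B : Matrix (Fin 2 ⊕ Fin 2) (Fin 2 ⊕ Fin 2) F} (hA : IsUJ σ A) (hAB : A * B = 1) :
    IsUJ σ B := by
  unfold IsUJ at *
  have hBA : B * A = 1 := mul_eq_one_comm.mp hAB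
  have h1 : Bᵀ * Aᵀ = 1 := by rw [← Matrix.transpose_mul, hAB, Matrix.transpose_one]
  have h2 : A.map σ * B.map σ = 1 := by
    rw [← Matrix.map_mul, hAB, Matrix.map_one σ (map_zero σ) (map_one σ)]
  calc Bᵀ * Matrix.J (Fin 2) F * B.map σ
      = Bᵀ * (Aᵀ * Matrix.J (Fin 2) F * A.map σ) * B.map σ := by rw [hA]
    _ = (Bᵀ * Aᵀ) * Matrix.J (Fin 2) F * (A.map σ * B.map σ) := by simp only [Matrix.mul_assoc]
    _ = Matrix.J (Fin 2) F := by rw [h1, h2, Matrix.one_mul, Matrix.mul_one]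

/-- The model: `SU₄` of the skew-hermitian form `J` (`Aᵀ * J * σ(A) = J`, `det A = 1`). -/
def SUJ (σ : F →+* F) : Subgroup (Matrix.SpecialLinearGroup (Fin 2 ⊕ Fin 2) F) where
  carrier := {A | IsUJ σ A.1}
  one_mem' := isUJ_one σ
  mul_mem' := fun {A B} hA hB => by
    show IsUJ σ (A * B).1
    rw [Matrix.SpecialLinearGroup.coe_mul]
    exact isUJ_mul σ hA hB
  inv_mem' := fun {A} hA => by
    refine isUJ_inv σ hA ?_
    rw [← Matrix.SpecialLinearGroup.coe_mul, mul_inv_cancel, Matrix.SpecialLinearGroup.coe_one]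

theorem mem_SUJ (σ : F →+* F) (A : Matrix.SpecialLinearGroup (Fin 2 ⊕ Fin 2) F) :
    A ∈ SUJ σ ↔ (A.1)ᵀ * Matrix.J (Fin 2) F * A.1.map σ = Matrix.J (Fin 2) F := Iff.rfl

theorem rhoATm_det (σ : F →+* F) (M : Matrix.SpecialLinearGroup (Fin 2) F) : (rhoATm σ M.1).det = 1 := by
  have hdet := sl2_det M
  unfold rhoATm
  rw [Matrix.det_fromBlocks_zero₁₂, M.2, one_mul, Matrix.det_fin_two_of]
  have := congrArg σ hdet
  simp only [map_sub, map_mul, map_one] at this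
  linear_combination this

theorem rhoBTm_det (ι : K →+* F) (M : Matrix.SpecialLinearGroup (Fin 2) K) : (rhoBTm ι M.1).det = 1 := by
  have hdet := sl2_det M
  have h : (rhoBTm ι M.1).submatrix (Equiv.swap (Sum.inl 1) (Sum.inr 0)) (Equiv.swap (Sum.inl 1) (Sum.inr 0)) =
      Matrix.fromBlocks 1 0 0 (M.1.map ι) := by
    ext (i | i) (j | j) <;> fin_cases i <;> fin_cases j <;>
      simp [rhoBTm, Equiv.swap_apply_def]
  rw [← Matrix.det_submatrix_equiv_self (Equiv.swap (Sum.inl 1) (Sum.inr 0)), h, Matrix.det_fromBlocks_zero₁₂,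
    Matrix.det_one, one_mul, Matrix.det_fin_two]
  have := congrArg ι hdet
  simp only [map_sub, map_mul, map_one] at this
  simpa using this

theorem rhoATm_isUJ (σ : F →+* F) (hσ : ∀ x, σ (σ x) = x) (M : Matrix.SpecialLinearGroup (Fin 2) F) :
    IsUJ σ (rhoATm σ M.1) := by
  have hdet := sl2_det M
  have hdet' := congrArg σ hdet
  simp only [map_sub, map_mul, map_one] at hdet'
  unfold IsUJ
  ext (i | i) (j | j) <;> fin_cases i <;> fin_cases j <;>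
    simp [rhoATm, Matrix.J, Matrix.mul_apply, Fintype.sum_sum_type, Fin.sum_univ_two,
      Matrix.one_apply, hσ] <;>
    first | done | ring1 | linear_combination hdet | linear_combination (-1 : F) * hdet | linear_combination hdet'

theorem rhoBTm_isUJ (σ : F →+* F) (ι : K →+* F) (hσι : ∀ y, σ (ι y) = ι y) (M : Matrix.SpecialLinearGroup (Fin 2) K) :
    IsUJ σ (rhoBTm ι M.1) := by
  have hdet := congrArg ι (sl2_det M)
  simp only [map_sub, map_mul, map_one] at hdet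
  unfold IsUJ
  ext (i | i) (j | j) <;> fin_cases i <;> fin_cases j <;>
    simp [rhoBTm, Matrix.J, Matrix.mul_apply, Fintype.sum_sum_type, Fin.sum_univ_two,
      Matrix.one_apply, hσι] <;>
    first | done | ring1 | linear_combination hdet | linear_combination (-1 : F) * hdet

theorem rhoATm_mul (σ : F →+* F) (M N : Matrix.SpecialLinearGroup (Fin 2) F) :
    rhoATm σ (M * N).1 = rhoATm σ M.1 * rhoATm σ N.1 := by
  ext (i | i) (j | j) <;> fin_cases i <;> fin_cases j <;>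
    simp [rhoATm, Matrix.mul_apply, Fintype.sum_sum_type, Fin.sum_univ_two] <;> first | done | ring1

theorem rhoBTm_mul (ι : K →+* F) (M N : Matrix.SpecialLinearGroup (Fin 2) K) :
    rhoBTm ι (M * N).1 = rhoBTm ι M.1 * rhoBTm ι N.1 := by
  ext (i | i) (j | j) <;> fin_cases i <;> fin_cases j <;>
    simp [rhoBTm, Matrix.mul_apply, Fintype.sum_sum_type, Fin.sum_univ_two]

theorem Tw.σ_ι (D : Tw F K) (y : K) : D.σ (D.ι y) = D.ι y := (D.fix (D.ι y)).2 ⟨y, rfl⟩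

/-- the short-root `SL₂(F) → SUJ`. -/
def rhoAT (D : Tw F K) : Matrix.SpecialLinearGroup (Fin 2) F →* ↥(SUJ D.σ) :=
  MonoidHom.mk' (fun M => ⟨⟨rhoATm D.σ M.1, rhoATm_det D.σ M⟩, rhoATm_isUJ D.σ D.σσ M⟩)
    (fun M N => Subtype.ext (Subtype.ext (rhoATm_mul D.σ M N)))

/-- the long-root `SL₂(K) → SUJ`. -/
def rhoBT (D : Tw F K) : Matrix.SpecialLinearGroup (Fin 2) K →* ↥(SUJ D.σ) :=
  MonoidHom.mk' (fun M => ⟨⟨rhoBTm D.ι M.1, rhoBTm_det D.ι M⟩, rhoBTm_isUJ D.σ D.ι D.σ_ι M⟩)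
    (fun M N => Subtype.ext (Subtype.ext (rhoBTm_mul D.ι M N)))

theorem rhoAT_coe (D : Tw F K) (M : Matrix.SpecialLinearGroup (Fin 2) F) :
    (((rhoAT D M : ↥(SUJ D.σ)) : Matrix.SpecialLinearGroup (Fin 2 ⊕ Fin 2) F) :
      Matrix (Fin 2 ⊕ Fin 2) (Fin 2 ⊕ Fin 2) F) = rhoATm D.σ M.1 := rfl

theorem rhoBT_coe (D : Tw F K) (M : Matrix.SpecialLinearGroup (Fin 2) K) :
    (((rhoBT D M : ↥(SUJ D.σ)) : Matrix.SpecialLinearGroup (Fin 2 ⊕ Fin 2) F) :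
      Matrix (Fin 2 ⊕ Fin 2) (Fin 2 ⊕ Fin 2) F) = rhoBTm D.ι M.1 := rfl

end Mat

end Cfsg.Agent.Lib.Helper22.SU4
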